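import Groth.Agent.Resolve.K631.SmDual
import Groth.Agent.LogNCD.K922.Chart
import Groth.Agent.Sga4B.SmoothPair
import Groth.Agent.Divis.IdealComap

/-!
# Normal crossings on a smooth relative curve with a section

`init`: `y : Y ⟶ S` smooth, `q : P ⟶ Y` smooth of relative dimension one and separated, `D` a relative normal
crossing divisor of `Y`. Then `q⁻¹ D` is a relative normal crossing divisor of `P`, and so is `q⁻¹ D + s(Y)` for every
section `s` of `q`.
-/

set_option autoImplicit false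

universe u

open CategoryTheory CategoryTheory.Limits AlgebraicGeometry TopologicalSpace Opposite
open Groth.Agent.Sga67.Sec Groth.Agent.Sga67.LocBasis K922.Coord K922.Chart K922.Quot

namespace K631.Init

/-- Coordinates of a smooth algebra have dual derivations on a smooth algebra over it. -/
theorem dualFor_tower {A B C : Type u} [CommRing A] [CommRing B] [CommRing C] (φ : A →+* B) (ψ : B →+* C)
    (hψ : ψ.Smooth) {ι : Type*} (v : ι → B) (hv : (MvPolynomial.eval₂Hom φ v).Smooth) (p : Ideal C) [p.IsPrime] :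
    K27.Crit.DualFor (ψ.comp φ) p (fun i => ψ (v i)) := by
  let _ : Algebra A B := φ.toAlgebra
  let _ : Algebra B C := ψ.toAlgebra
  let _ : Algebra A C := (ψ.comp φ).toAlgebra
  have : IsScalarTower A B C := IsScalarTower.of_algebraMap_eq fun _ => rfl
  have : Algebra.Smooth B C := hψ
  intro i
  obtain ⟨δ, h1, h2⟩ := K631.SmDual.dualAt_of_smooth (A := A) (κ := p.ResidueField) v hv i
  obtain ⟨δ', h3⟩ := K631.SmDual.exists_derivation A (C := C) δ
  exact ⟨δ', (h3 _).trans h1, fun j hj => (h3 _).trans (h2 j hj)⟩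

/-- The same with a coordinate of the upper algebra added. -/
theorem dualFor_tower_insert {A B C : Type u} [CommRing A] [CommRing B] [CommRing C] (φ : A →+* B) (ψ : B →+* C)
    (hψ : ψ.Smooth) {ι : Type*} (v : ι → B) (hv : (MvPolynomial.eval₂Hom φ v).Smooth) (p : Ideal C) [p.IsPrime]
    (z : C) (hz : (MvPolynomial.eval₂Hom ψ (fun _ : Fin 1 => z)).Smooth) :
    K27.Crit.DualFor (ψ.comp φ) p (fun o : Option ι => o.elim z fun i => ψ (v i)) := by
  let _ : Algebra A B := φ.toAlgebra
  let _ : Algebra B C := ψ.toAlgebra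
  let _ : Algebra A C := (ψ.comp φ).toAlgebra
  have : IsScalarTower A B C := IsScalarTower.of_algebraMap_eq fun _ => rfl
  have : Algebra.Smooth B C := hψ
  obtain ⟨δ₀, h1, -⟩ := K631.SmDual.dualAt_of_smooth (A := B) (κ := p.ResidueField) (fun _ : Fin 1 => z) hz 0
  have h0 : ∀ b, δ₀ (ψ b) = 0 := fun b => δ₀.map_algebraMap b
  have hd := dualFor_tower φ ψ hψ v hv p
  refine K27.Dual.DualAt.insert _ none ?_ (δ₀.restrictScalars A) ?_ ?_
  · rintro (_ | i) hi
    · exact absurd rfl hi
    · obtain ⟨δ, h2, h3⟩ := hd i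
      refine ⟨δ, h2, ?_⟩
      rintro (_ | j) hj hj0
      · exact absurd rfl hj0
      · exact h3 j fun h => hj (congrArg some h)
  · rintro (_ | j) hj
    · exact absurd rfl hj
    · exact h0 (v j)
  · change δ₀ z ≠ 0
    rw [h1]
    exact one_ne_zero

theorem dualFor_comp {A B : Type u} [CommRing A] [CommRing B] {φ : A →+* B} {p : Ideal B} [p.IsPrime]
    {ι κ : Type*} {t : ι → B} (h : K27.Crit.DualFor φ p t) (e : κ → ι) (he : Function.Injective e) :
    K27.Crit.DualFor φ p (fun i => t (e i)) := by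
  let _ : Algebra A B := φ.toAlgebra
  exact K27.Dual.DualAt.comp h e he

theorem smooth_of_etale {A B : Type u} [CommRing A] [CommRing B] {φ : A →+* B} (h : φ.Etale) : φ.Smooth := by
  algebraize [φ]
  exact (inferInstance : Algebra.Smooth A B)

variable {S Y P : Scheme.{u}}

/-- Étale coordinates adapted to a normal crossing divisor near a point, ring form. -/
theorem exists_coord (y : Y ⟶ S) [Smooth y] {r : ℕ} (D : Fin r → Y.IdealSheafData) (hD : LogNCD.IsNCD D y) (p : Y) :
    ∃ (W : Y.affineOpens) (V : S.affineOpens) (e : W.1 ≤ y ⁻¹ᵁ V.1) (n : ℕ) (v : Fin n → Γ(Y, W.1))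
      (k : {i : Fin r // p ∈ (D i).support} → Fin n), p ∈ W.1 ∧ Function.Injective k ∧
      (MvPolynomial.eval₂Hom (y.appLE V.1 W.1 e).hom v).Etale ∧
      ∀ i, (D i.1).ideal W = Ideal.span {v (k i)} := by
  obtain ⟨U, n, c, hpU, -⟩ := exists_chart (f := y) hD (O := ⊤) (x := p) trivial
  obtain ⟨W, h, V, e, -, hpW, het⟩ := c.coord p U.1 le_rfl hpU
  have hk : ∀ i : {i : Fin r // p ∈ (D i).support}, ∃ k, c.e i.1 = some k := by
    intro i
    rcases hi : c.e i.1 with _ | k
    · exfalso
      have h1 := c.ideal i.1 U le_rfl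
      rw [c.g_none i.1 hi, map_one, Ideal.span_singleton_one] at h1
      exact notMem_support_of_ideal_eq_top _ U h1 p hpU i.2
    · exact ⟨k, rfl⟩
  choose k hk using hk
  refine ⟨W, V, e, n, fun j => resO Y h (c.v j), k, hpW, ?_, het, ?_⟩
  · intro i j hij
    exact Subtype.ext (c.inj i.1 j.1 (k i) (hk i) (hij ▸ hk j))
  · intro i
    rw [c.ideal i.1 W h, c.g_some i.1 (k i) (hk i)]

/-- A section of a smooth relative curve is cut out by an étale coordinate near each of its points. -/
theorem exists_coord_sec (q : P ⟶ Y) [SmoothOfRelativeDimension 1 q] (s : Y ⟶ P) [IsClosedImmersion s]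
    (hs : s ≫ q = 𝟙 Y) (p : Y) (U : P.affineOpens) (W : Y.affineOpens) (hpU : s p ∈ U.1) (e : U.1 ≤ q ⁻¹ᵁ W.1) :
    ∃ (U' : P.affineOpens) (h : U'.1 ≤ U.1) (z : Γ(P, U'.1)), s p ∈ U'.1 ∧
      (MvPolynomial.eval₂Hom (q.appLE W.1 U'.1 (h.trans e)).hom (fun _ : Fin 1 => z)).Etale ∧
      s.ker.ideal U' = Ideal.span {z} := by
  have h0 : SmoothOfRelativeDimension 0 (s ≫ q) := by
    rw [hs]
    infer_instance
  obtain ⟨g, φ, hg, hφ, hφC, hφJ⟩ := Groth.Agent.Sga4B.SmoothPair.exists_chart_zariski q s 0 1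
    (by rw [zero_add]; infer_instance) h0 p W.2 U.2 hpU e
  have hgU : P.basicOpen g ≤ U.1 := P.basicOpen_le g
  let _ : Algebra Γ(P, U.1) Γ(P, P.basicOpen g) := (resO P hgU).toAlgebra
  have hloc : IsLocalization.Away g Γ(P, P.basicOpen g) := U.2.isLocalization_basicOpen g
  let ε : Localization.Away g ≃ₐ[Γ(P, U.1)] Γ(P, P.basicOpen g) :=
    IsLocalization.algEquiv (Submonoid.powers g) _ _
  let z : Γ(P, P.basicOpen g) := ε (φ (MvPolynomial.X 0))
  refine ⟨⟨P.basicOpen g, U.2.basicOpen g⟩, hgU, z, hg, ?_, ?_⟩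
  · let α : MvPolynomial (Fin 1) Γ(Y, W.1) ≃+* MvPolynomial (Fin 1) (MvPolynomial (Fin 0) Γ(Y, W.1)) :=
      MvPolynomial.mapEquiv (Fin 1) (MvPolynomial.isEmptyRingEquiv Γ(Y, W.1) (Fin 0)).symm
    have h1 : MvPolynomial.eval₂Hom (q.appLE W.1 (P.basicOpen g) (hgU.trans e)).hom (fun _ : Fin 1 => z) =
        (ε.toRingEquiv : Localization.Away g →+* Γ(P, P.basicOpen g)).comp (φ.comp (α : _ →+* _)) := by
      apply MvPolynomial.ringHom_ext
      · intro a
        rw [MvPolynomial.eval₂Hom_C]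
        have h2 : (q.appLE W.1 (P.basicOpen g) (hgU.trans e)).hom a = resO P hgU ((q.appLE W.1 U.1 e).hom a) :=
          congr($((Scheme.Hom.appLE_map q e (homOfLE hgU).op).symm).hom a)
        have h3 := congr($hφC a)
        have h4 : α (MvPolynomial.C a) = MvPolynomial.C (MvPolynomial.C a) := by
          simp [α]
        change _ = ε (φ (α (MvPolynomial.C a)))
        rw [h4, h2]
        change _ = ε ((φ.comp (MvPolynomial.C.comp MvPolynomial.C)) a)
        rw [h3]
        exact (ε.commutes _).symm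
      · intro j
        rw [MvPolynomial.eval₂Hom_X']
        obtain rfl : j = 0 := Subsingleton.elim _ _
        change z = ε (φ (α (MvPolynomial.X 0)))
        simp [α, z]
    rw [h1]
    apply RingHom.Etale.respectsIso.1 _ ε.toRingEquiv
    exact RingHom.Etale.respectsIso.2 _ α hφ
  · have h1 := s.ker.map_ideal (U := ⟨P.basicOpen g, U.2.basicOpen g⟩) (V := U) hgU
    rw [Scheme.Hom.ker_apply] at h1
    have h2 : (RingHom.ker (s.app U.1).hom).map (algebraMap Γ(P, U.1) Γ(P, P.basicOpen g)) =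
        Ideal.span {z} := by
      have h3 : algebraMap Γ(P, U.1) Γ(P, P.basicOpen g) =
          (ε.toRingEquiv : Localization.Away g →+* Γ(P, P.basicOpen g)).comp
            (algebraMap Γ(P, U.1) (Localization.Away g)) := by
        ext a
        exact (ε.commutes a).symm
      rw [h3, ← Ideal.map_map, hφJ, Ideal.map_span]
      congr 1
      ext a
      simp [z, eq_comm]
    rw [← h2]
    exact h1.symm

/-- (INIT) for the inverse image. -/
theorem isNCD_comap (y : Y ⟶ S) [Smooth y] (q : P ⟶ Y) [Smooth q] {r : ℕ} (D : Fin r → Y.IdealSheafData)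
    (hD : LogNCD.IsNCD D y) : LogNCD.IsNCD (fun i => (D i).comap q) (q ≫ y) := by
  apply K27.Crit.isNCD_of_forall
  intro x _
  obtain ⟨W, V, e, n, v, k, hW, hk, het, hv⟩ := exists_coord y D hD (q x)
  obtain ⟨U, hU, hxU⟩ := exists_affine_nhd (X := P) (U := q ⁻¹ᵁ W.1) (x := x) hW
  have hi : ∀ i, x ∈ ((D i).comap q).support → q x ∈ (D i).support := fun i hi => by
    rwa [Scheme.IdealSheafData.support_comap] at hi
  refine ⟨U, V, hU.trans (fun _ h => e h), hxU,
    fun i => (q.appLE W.1 U.1 hU).hom (v (k ⟨i.1, hi i.1 i.2⟩)), fun i => ?_, ?_⟩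
  · rw [Groth.Agent.Divis.IdealComap.ideal_comap (D i.1) q W U hU, hv ⟨i.1, hi i.1 i.2⟩, Ideal.map_span,
      Set.image_singleton]
  · have h1 : ((q ≫ y).appLE V.1 U.1 (hU.trans (fun _ h => e h))).hom =
        (q.appLE W.1 U.1 hU).hom.comp (y.appLE V.1 W.1 e).hom := by
      rw [← CommRingCat.hom_comp, Scheme.Hom.appLE_comp_appLE]
    rw [h1]
    have h2 := dualFor_tower (y.appLE V.1 W.1 e).hom (q.appLE W.1 U.1 hU).hom
      (HasRingHomProperty.appLE @Smooth q inferInstance W U hU) v (smooth_of_etale het) (U.2.primeIdealOf ⟨x, hxU⟩).asIdeal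
    refine dualFor_comp h2 (fun i : LogNCD.Through (fun i => (D i).comap q) x => k ⟨i.1, hi i.1 i.2⟩) ?_
    intro i j hij
    have h3 := hk hij
    rw [Subtype.mk.injEq] at h3
    exact Subtype.ext h3

theorem init (y : Y ⟶ S) [Smooth y] (q : P ⟶ Y) [SmoothOfRelativeDimension 1 q] [IsSeparated q] {r : ℕ}
    (D : Fin r → Y.IdealSheafData) (hD : LogNCD.IsNCD D y) :
    LogNCD.IsNCD (fun i => (D i).comap q) (q ≫ y) ∧
    ∀ s : Y ⟶ P, s ≫ q = 𝟙 Y →
      LogNCD.IsNCD (Fin.cons s.ker (fun i => (D i).comap q) : Fin (r + 1) → P.IdealSheafData) (q ≫ y) := by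
  have hq : Smooth q := SmoothOfRelativeDimension.smooth 1 q
  have hD' := isNCD_comap y q D hD
  refine ⟨hD', fun s hs => ?_⟩
  have hs' : IsClosedImmersion s := by
    have : IsClosedImmersion (s ≫ q) := by rw [hs]; infer_instance
    exact IsClosedImmersion.of_comp s q
  apply K27.Crit.isNCD_of_forall
  intro x _
  obtain ⟨W, V, e, n, v, k, hW, hk, het, hv⟩ := exists_coord y D hD (q x)
  have hi : ∀ i : Fin r, x ∈ ((D i).comap q).support → q x ∈ (D i).support := fun i hi => by
    rwa [Scheme.IdealSheafData.support_comap] at hi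
  have key : ∀ (U : P.affineOpens) (hU : U.1 ≤ q ⁻¹ᵁ W.1) (i : Fin r) (hx : x ∈ ((D i).comap q).support),
      ((D i).comap q).ideal U = Ideal.span {(q.appLE W.1 U.1 hU).hom (v (k ⟨i, hi i hx⟩))} := by
    intro U hU i hx
    rw [Groth.Agent.Divis.IdealComap.ideal_comap (D i) q W U hU, hv ⟨i, hi i hx⟩, Ideal.map_span,
      Set.image_singleton]
  have hcomp : ∀ (U : P.affineOpens) (hU : U.1 ≤ q ⁻¹ᵁ W.1), ((q ≫ y).appLE V.1 U.1 (hU.trans (fun _ h => e h))).hom =
        (q.appLE W.1 U.1 hU).hom.comp (y.appLE V.1 W.1 e).hom := by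
    intro U hU
    rw [← CommRingCat.hom_comp, Scheme.Hom.appLE_comp_appLE]
  let D' : Fin (r + 1) → P.IdealSheafData := Fin.cons s.ker (fun i => (D i).comap q)
  by_cases hx0 : x ∈ s.ker.support
  · have hx1 : x ∈ Set.range s := by
      have h1 := s.support_ker
      rw [s.isClosedEmbedding.isClosed_range.closure_eq] at h1
      rw [← h1]
      exact hx0
    obtain ⟨p, hp⟩ := hx1
    have hpq : p = q x := by
      rw [← hp]
      exact congr($hs p).symm
    obtain ⟨U₀, hU₀, hxU₀⟩ := exists_affine_nhd (X := P) (U := q ⁻¹ᵁ W.1) (x := x) hW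
    obtain ⟨U, hU, z, hxU, hz, hzI⟩ := exists_coord_sec q s hs p U₀ W (hp ▸ hxU₀) hU₀
    rw [hp] at hxU
    have hUW := hU.trans hU₀
    let t₀ : Option (Fin n) → Γ(P, U.1) := fun o => o.elim z fun i => (q.appLE W.1 U.1 hUW).hom (v i)
    have main : ∀ i : Fin (r + 1), ∃ o : Option (Fin n), x ∈ (D' i).support → (D' i).ideal U = Ideal.span {t₀ o} ∧ 
        (i = 0 → o = none) ∧ ∀ j, i = j.succ → ∃ h, o = some (k ⟨j, h⟩) := by
      intro i
      by_cases hxi : x ∈ (D' i).support
      · induction i using Fin.cases with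
        | zero => exact ⟨none, fun _ => ⟨hzI, fun _ => rfl, fun j hj => absurd hj.symm (Fin.succ_ne_zero j)⟩⟩
        | succ i =>
          refine ⟨some (k ⟨i, hi i hxi⟩), fun _ => ⟨key U hUW i hxi, fun h => absurd h (Fin.succ_ne_zero i), ?_⟩⟩
          intro j hj
          obtain rfl := Fin.succ_injective _ hj
          exact ⟨hi i hxi, rfl⟩
      · exact ⟨none, fun h => absurd h hxi⟩
    choose o ho using main
    refine ⟨U, V, hUW.trans (fun _ h => e h), hxU, fun i => t₀ (o i.1), fun i => (ho i.1 i.2).1, ?_⟩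
    rw [hcomp U hUW]
    refine dualFor_comp (dualFor_tower_insert (y.appLE V.1 W.1 e).hom (q.appLE W.1 U.1 hUW).hom
      (HasRingHomProperty.appLE @Smooth q inferInstance W U hUW) v (smooth_of_etale het) (U.2.primeIdealOf ⟨x, hxU⟩).asIdeal z
      (smooth_of_etale hz)) (fun i : LogNCD.Through D' x => o i.1) ?_
    rintro ⟨i, hi1⟩ ⟨j, hj1⟩ hij
    apply Subtype.ext
    change i = j
    replace hij : o i = o j := hij
    obtain ⟨-, h1, h2⟩ := ho i hi1
    obtain ⟨-, h3, h4⟩ := ho j hj1
    induction i using Fin.cases with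
    | zero =>
      induction j using Fin.cases with
      | zero => rfl
      | succ j =>
        exfalso
        obtain ⟨h5, h6⟩ := h4 j rfl
        rw [h1 rfl, h6] at hij
        exact absurd hij (by simp)
    | succ i =>
      induction j using Fin.cases with
      | zero =>
        exfalso
        obtain ⟨h5, h6⟩ := h2 i rfl
        rw [h3 rfl, h6] at hij
        exact absurd hij (by simp)
      | succ j =>
        obtain ⟨h5, h6⟩ := h4 j rfl
        obtain ⟨h7, h8⟩ := h2 i rfl
        rw [h6, h8] at hij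
        exact congrArg Fin.succ (congrArg Subtype.val (hk (Option.some.inj hij)))
  · obtain ⟨U, hUW, hxU⟩ := exists_affine_nhd (X := P) (U := q ⁻¹ᵁ W.1) (x := x) hW
    have h0 : ∀ i : LogNCD.Through D' x, ∃ j : Fin r, i.1 = j.succ := by
      rintro ⟨i, hi⟩
      induction i using Fin.cases with
      | zero => exact absurd hi hx0
      | succ j => exact ⟨j, rfl⟩
    choose j hj using h0
    have hj' : ∀ i : LogNCD.Through D' x, x ∈ ((D (j i)).comap q).support := fun i => by
      have h1 := i.2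
      rw [hj i] at h1
      exact h1
    refine ⟨U, V, hUW.trans (fun _ h => e h), hxU,
      fun i => (q.appLE W.1 U.1 hUW).hom (v (k ⟨j i, hi _ (hj' i)⟩)), fun i => ?_, ?_⟩
    · have h1 : (D' i.1).ideal U = ((D (j i)).comap q).ideal U := by
        rw [hj i]
        rfl
      exact h1.trans (key U hUW (j i) (hj' i))
    · rw [hcomp U hUW]
      refine dualFor_comp (dualFor_tower (y.appLE V.1 W.1 e).hom (q.appLE W.1 U.1 hUW).hom
        (HasRingHomProperty.appLE @Smooth q inferInstance W U hUW) v (smooth_of_etale het)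
        (U.2.primeIdealOf ⟨x, hxU⟩).asIdeal)
        (fun i : LogNCD.Through D' x => k ⟨j i, hi _ (hj' i)⟩) ?_
      intro a b hab
      have h1 : j a = j b := congrArg Subtype.val (hk hab)
      apply Subtype.ext
      rw [hj a, hj b, h1]

end K631.Init
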