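import Groth.Agent.Resolve.K84.Iface
import Groth.Agent.EGA2.K32.ChowMain
import Groth.Agent.RelProj.K823.HProj
import Groth.Agent.VarietyA.RegSmoothSch
import Groth.Agent.VarietyB.DimSch
import Groth.Agent.CycB.ImageInt
import Groth.Prelude.Def_Curv2

/-!
# `∀ n, W K n` implies the resolution of singularities of integral schemes of finite type over `K`

* `isBir_comp`, `isBir_restrict`, `isDominant_of_isBir`: bookkeeping for `K84.Iface.IsBir`.
* `main`: the statement of S19921 from `∀ n, K84.Iface.W K n`.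
-/

set_option autoImplicit false
universe u
open CategoryTheory CategoryTheory.Limits AlgebraicGeometry TopologicalSpace

namespace K631.ResE3

open K84.Iface

theorem isIso_of_le {X Y : Scheme.{u}} (f : X ⟶ Y) {U V : Y.Opens} (h : V ≤ U) (hU : IsIso (f ∣_ U)) :
    IsIso (f ∣_ V) := by
  have h1 : IsPullback (f ∣_ V) (f ⁻¹ᵁ V).ι V.ι f := isPullback_morphismRestrict f V
  have h2 : IsPullback (f ∣_ U) (f ⁻¹ᵁ U).ι U.ι f := isPullback_morphismRestrict f U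
  have h3 : IsPullback (X.homOfLE (show f ⁻¹ᵁ V ≤ f ⁻¹ᵁ U from fun x hx => h hx)) (f ∣_ V) (f ∣_ U)
      (Y.homOfLE h) := by
    refine IsPullback.of_right ?_ ?_ h2.flip
    · simpa using h1.flip
    · rw [← cancel_mono U.ι]
      simp
  exact MorphismProperty.of_isPullback (P := MorphismProperty.isomorphisms Scheme) h3 hU

/-- If `f` is an isomorphism over `U`, every open inside `f⁻¹ U` is the preimage of an open of `U`. -/
theorem exists_open {X Y : Scheme.{u}} (f : X ⟶ Y) (U : Y.Opens) (hU : IsIso (f ∣_ U)) (W : X.Opens)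
    (hW : W ≤ f ⁻¹ᵁ U) : ∃ O : Y.Opens, O ≤ U ∧ f ⁻¹ᵁ O = W := by
  let g : (f ⁻¹ᵁ U : X.Opens).toScheme ⟶ Y := (f ∣_ U) ≫ U.ι
  have hg : g = (f ⁻¹ᵁ U).ι ≫ f := morphismRestrict_ι f U
  have hinj : Function.Injective g := g.isOpenEmbedding.injective
  let O : Y.Opens := g ''ᵁ ((f ⁻¹ᵁ U).ι ⁻¹ᵁ W)
  have hgx : ∀ z : (f ⁻¹ᵁ U : X.Opens).toScheme, g z = f z.1 := by
    intro z
    rw [hg, Scheme.Hom.comp_apply]
    rfl
  have hO : ∀ y : Y, y ∈ O ↔ ∃ x : X, x ∈ W ∧ f x = y := by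
    intro y
    constructor
    · rintro ⟨z, hz, rfl⟩
      exact ⟨z.1, hz, (hgx z).symm⟩
    · rintro ⟨x, hx, rfl⟩
      exact ⟨⟨x, hW hx⟩, hx, hgx _⟩
  refine ⟨O, ?_, ?_⟩
  · intro y hy
    obtain ⟨x, hx, rfl⟩ := (hO y).1 hy
    exact hW hx
  · ext x
    change f x ∈ O ↔ x ∈ W
    rw [hO]
    refine ⟨?_, fun hx => ⟨x, hx, rfl⟩⟩
    rintro ⟨x', hx', h⟩
    have hxU : f x ∈ U := by rw [← h]; exact hW hx'
    let z : (f ⁻¹ᵁ U : X.Opens).toScheme := ⟨x, hxU⟩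
    let z' : (f ⁻¹ᵁ U : X.Opens).toScheme := ⟨x', hW hx'⟩
    have h1 : g z = g z' := by
      rw [hgx, hgx]
      exact h.symm
    have h2 := congrArg Subtype.val (hinj h1)
    change x = x' at h2
    rw [h2]; exact hx'

/-- birational morphisms with irreducible middle compose -/
theorem isBir_comp {A B C : Scheme.{u}} [IrreducibleSpace B] {a : A ⟶ B} {b : B ⟶ C} (ha : IsBir a)
    (hb : IsBir b) : IsBir (a ≫ b) := by
  obtain ⟨V, hV, hi⟩ := ha
  obtain ⟨U, ⟨c, hc⟩, hj⟩ := hb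
  have hU : ((b ⁻¹ᵁ U : B.Opens) : Set B).Nonempty := by
    obtain ⟨x, -⟩ := (b ∣_ U).surjective ⟨c, hc⟩
    exact ⟨x.1, x.2⟩
  obtain ⟨O, hOU, hO⟩ := exists_open b U hj (V ⊓ b ⁻¹ᵁ U) inf_le_right
  have hWne : ((V ⊓ b ⁻¹ᵁ U : B.Opens) : Set B).Nonempty := by
    rw [Opens.coe_inf]
    exact nonempty_preirreducible_inter V.2 (b ⁻¹ᵁ U).2 hV hU
  refine ⟨O, ?_, ?_⟩
  · obtain ⟨x, hx⟩ := hWne
    rw [← hO] at hx
    exact ⟨b x, hx⟩
  · have h1 : IsIso (b ∣_ O) := isIso_of_le b hOU hj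
    have h2 : IsIso (a ∣_ (b ⁻¹ᵁ O)) := isIso_of_le a (by rw [hO]; exact inf_le_left) hi
    rw [morphismRestrict_comp]
    exact @IsIso.comp_isIso _ _ _ _ _ _ _ h2 h1

theorem isDominant_of_isBir {X Y : Scheme.{u}} [IrreducibleSpace Y] {f : X ⟶ Y} (h : IsBir f) :
    IsDominant f := by
  obtain ⟨U, hU, hi⟩ := h
  constructor
  have h1 : (U : Set Y) ⊆ Set.range f := by
    intro y hy
    obtain ⟨z, hz⟩ := (f ∣_ U).surjective ⟨y, hy⟩
    refine ⟨z.1, ?_⟩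
    have h2 := congrArg Subtype.val hz
    exact (morphismRestrict_base_coe f U z).symm.trans h2
  have h2 : Dense (U : Set Y) := U.isOpen.dense hU
  exact h2.mono h1

/-- birational morphisms pull back along open immersions from a non-empty scheme -/
theorem isBir_pullback {X Y Y' : Scheme.{u}} [IrreducibleSpace Y] {f : X ⟶ Y} (h : IsBir f) (j : Y' ⟶ Y)
    [IsOpenImmersion j] [Nonempty Y'] {X' : Scheme.{u}} {f' : X' ⟶ Y'} {j' : X' ⟶ X}
    (hp : IsPullback j' f' f j) : IsBir f' := by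
  obtain ⟨U, hU, hi⟩ := h
  have hne : (((j.opensRange ⊓ U : Y.Opens)) : Set Y).Nonempty := by
    rw [Opens.coe_inf]
    refine nonempty_preirreducible_inter j.opensRange.2 U.2 ?_ hU
    exact ⟨j (Classical.arbitrary Y'), ⟨_, rfl⟩⟩
  refine ⟨j ⁻¹ᵁ U, ?_, ?_⟩
  · obtain ⟨y, ⟨y', rfl⟩, hy⟩ := hne
    exact ⟨y', hy⟩
  · have h1 : IsPullback (f' ∣_ (j ⁻¹ᵁ U)) (f' ⁻¹ᵁ (j ⁻¹ᵁ U)).ι (j ⁻¹ᵁ U).ι f' :=
      isPullback_morphismRestrict f' _
    have h2 : IsPullback (f ∣_ U) (f ⁻¹ᵁ U).ι U.ι f := isPullback_morphismRestrict f U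
    have h4 : IsPullback ((f' ⁻¹ᵁ (j ⁻¹ᵁ U)).ι ≫ j') (f' ∣_ (j ⁻¹ᵁ U)) f ((j ⁻¹ᵁ U).ι ≫ j) :=
      h1.flip.paste_horiz hp
    rw [← morphismRestrict_ι] at h4
    have hle : ∀ x, ((f' ⁻¹ᵁ (j ⁻¹ᵁ U)).ι ≫ j') x ∈ f ⁻¹ᵁ U := by
      intro x
      change f (((f' ⁻¹ᵁ (j ⁻¹ᵁ U)).ι ≫ j') x) ∈ U
      rw [← Scheme.Hom.comp_apply, h4.w, Scheme.Hom.comp_apply, Scheme.Hom.comp_apply]
      exact (((j ∣_ U) ((f' ∣_ (j ⁻¹ᵁ U)) x))).2
    let l : (f' ⁻¹ᵁ (j ⁻¹ᵁ U)).toScheme ⟶ (f ⁻¹ᵁ U).toScheme :=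
      IsOpenImmersion.lift (f ⁻¹ᵁ U).ι ((f' ⁻¹ᵁ (j ⁻¹ᵁ U)).ι ≫ j') (by
        rintro _ ⟨x, rfl⟩
        rw [Scheme.Opens.range_ι]
        exact hle x)
    have hl : l ≫ (f ⁻¹ᵁ U).ι = (f' ⁻¹ᵁ (j ⁻¹ᵁ U)).ι ≫ j' := IsOpenImmersion.lift_fac _ _ _
    have h3 : IsPullback l (f' ∣_ (j ⁻¹ᵁ U)) (f ∣_ U) (j ∣_ U) := by
      refine IsPullback.of_right (h₁₂ := (f ⁻¹ᵁ U).ι) (h₂₂ := U.ι) (v₁₃ := f) ?_ ?_ h2.flip
      · rw [hl]; exact h4
      · rw [← cancel_mono U.ι, Category.assoc, Category.assoc, morphismRestrict_ι, reassoc_of% hl, ← h4.w,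
            Category.assoc]
    exact MorphismProperty.of_isPullback (P := MorphismProperty.isomorphisms Scheme) h3 hi

/-- an integral scheme immersed in `P^n_K` is a non-empty open of an integral H-projective scheme -/
theorem exists_closure {K : Type u} [Field K] {X : Scheme.{u}} [IsIntegral X]
    (p : X ⟶ Spec (CommRingCat.of K)) [LocallyOfFiniteType p] [QuasiCompact p] {n : ℕ}
    (j : X ⟶ CohB1.ProjSpaceOver n (Spec (CommRingCat.of K))) [IsImmersion j]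
    (hj : j ≫ CohB1.ProjSpaceOver.toBase n (Spec (CommRingCat.of K)) = p) :
    ∃ (Y : Scheme.{u}) (o : X ⟶ Y) (y : Y ⟶ Spec (CommRingCat.of K)) (d : ℕ), IsIntegral Y ∧
      IsOpenImmersion o ∧ o ≫ y = p ∧ RelProj.IsHProjective y ∧ topologicalKrullDim Y = d := by
  have hp := Groth.Agent.Dix.ProjProper.isProper_toBase n (Spec (CommRingCat.of K))
  have hqc : QuasiCompact (j ≫ CohB1.ProjSpaceOver.toBase n (Spec (CommRingCat.of K))) := by
    rw [hj]; infer_instance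
  have : QuasiCompact j := QuasiCompact.of_comp j (CohB1.ProjSpaceOver.toBase n _)
  have hint : IsIntegral j.image := Groth.Agent.CycB.ImageInt.isIntegral_image j
  let y : j.image ⟶ Spec (CommRingCat.of K) := j.imageι ≫ CohB1.ProjSpaceOver.toBase n _
  let _ : j.image.Over (Spec (CommRingCat.of K)) := ⟨y⟩
  have : LocallyOfFiniteType (j.image ↘ Spec (CommRingCat.of K)) := inferInstanceAs (LocallyOfFiniteType y)
  exact ⟨j.image, j.toImage, y, _, hint, inferInstance, by rw [← hj, Scheme.Hom.toImage_imageι_assoc],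
    ⟨n, j.imageι, inferInstance, rfl⟩, Groth.Agent.VarietyB.DimSch.topologicalKrullDim_eq_trd K⟩

theorem isProper_of_isHProjective {X S : Scheme.{u}} {f : X ⟶ S} (h : RelProj.IsHProjective f) :
    IsProper f := by
  obtain ⟨n, i, hi, rfl⟩ := h
  have hp := Groth.Agent.Dix.ProjProper.isProper_toBase n S
  infer_instance

/-- **(E3)** -/
theorem main {K : Type u} [Field K] (hW : ∀ n, W K n)
    {X : Scheme.{u}} (p : X ⟶ Spec (CommRingCat.of K))
    [IsIntegral X] [IsSeparated p] [LocallyOfFiniteType p] [QuasiCompact p] :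
    ∃ (X₁ : Scheme.{u}) (φ : X₁ ⟶ X), IsIntegral X₁ ∧
      (∀ x : X₁, IsRegularLocalRing (X₁.presheaf.stalk x)) ∧ RelProj.IsProjective φ ∧
      Curv2.IsAlteration φ ∧ ∃ V : X.Opens, (V : Set X).Nonempty ∧ IsIso (φ ∣_ V) := by
  obtain ⟨n, X', π, j, hj, hjπ, hπ, hπs, ⟨U, hU, hU', hi⟩, hred⟩ :=
    Groth.Agent.EGA2.K32.ChowDense.exists_chow p (Or.inl inferInstance)
  have : IsReduced X' := hred inferInstance
  have : IrreducibleSpace X' := Groth.Agent.EGA2.K32.ChowMain.irreducible_of_dense π U hU' inferInstance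
  have : IsIntegral X' := isIntegral_of_irreducibleSpace_of_isReduced X'
  obtain ⟨Y, o, y, d, hY, ho, hoy, hy, hd⟩ := exists_closure (π ≫ p) j hjπ
  have hyp : IsProper y := isProper_of_isHProjective hy
  obtain ⟨Z, ψ, r, D, hZ, hψy, hψ, hsm, -, -⟩ := hW d Y y hY hy hd ∅ isClosed_empty Set.empty_ne_univ
  have h1 : IsProper (ψ ≫ y) := isProper_of_isHProjective hψy
  have h2 : IsProper ψ := IsProper.of_comp ψ y
  have h3 : IsBir (pullback.snd ψ o) := isBir_pullback hψ o (IsPullback.of_hasPullback ψ o)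
  have h4 : IsBir π := ⟨U, hU.nonempty, hi⟩
  have h5 : IsBir (pullback.snd ψ o ≫ π) := isBir_comp h3 h4
  have hne : Nonempty (pullback ψ o : Scheme.{u}) := by
    obtain ⟨V, ⟨x, hx⟩, hV⟩ := h3
    obtain ⟨z, -⟩ := (pullback.snd ψ o ∣_ V).surjective ⟨x, hx⟩
    exact ⟨z.1⟩
  have h6 : IsIntegral (pullback ψ o) := isIntegral_of_isOpenImmersion (pullback.fst ψ o)
  obtain ⟨m, i, hi', hiy⟩ := hψy
  have h7 : (pullback.fst ψ o ≫ i) ≫ CohB1.ProjSpaceOver.toBase m (Spec (CommRingCat.of K)) =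
      (pullback.snd ψ o ≫ π) ≫ p := by
    rw [Category.assoc, hiy, pullback.condition_assoc, hoy, Category.assoc]
  have h8 : RelProj.IsHProjective (pullback.snd ψ o ≫ π) :=
    Groth.Agent.EGA2.K32.ChowDense.isHProjective_of_immersion p _ (pullback.fst ψ o ≫ i) h7
  have h9 : Smooth (pullback.fst ψ o ≫ ψ ≫ y) := inferInstance
  refine ⟨pullback ψ o, pullback.snd ψ o ≫ π, h6, fun x => ?_, ?_, ⟨inferInstance, h6, inferInstance, ?_, ?_⟩,
    h5⟩
  · exact Groth.Agent.VarietyA.RegSmoothSch.isRegularLocalRing_stalk_of_mem_smoothLocus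
      (pullback.fst ψ o ≫ ψ ≫ y) x (by rw [Scheme.Hom.smoothLocus_eq_top]; trivial)
  · exact K823.HProj.isProjective_of_isHProjective _ h8
  · exact isDominant_of_isBir h5
  · obtain ⟨V, hV, hVi⟩ := h5
    exact ⟨V, hV, inferInstance⟩

end K631.ResE3
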