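import Groth.Agent.Resolve.K84.Tor
import Groth.Agent.Resolve.K73.ToricAlg
import Groth.Agent.Lefpen.H705.LocModel
import Groth.Agent.Ega43.SmoothReduced
import Mathlib.LinearAlgebra.FreeModule.PID
import Mathlib.RingTheory.Etale.Basic

/-!
# Cones of multiplicity one

* `exists_basis`: if `mult v = 1` there is a basis `e_i, b_k` of `P` with `v_i (e_j) = δ_ij`, `v_i (b_k) = 0`.
* `etale_coord`: `K[X_i, Y_k] → K[cone v]`, `X_i ↦ x^(e_i)`, `Y_k ↦ x^(b_k)` is étale.
* `isReduced_quotient`: if `K[X_σ] → R` is smooth then `R/(t_i)` is reduced.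
-/

set_option autoImplicit false

universe u

namespace K631.Fin1Alg

open K84.Tor AddMonoidAlgebra

variable {P : Type} [AddCommGroup P] {I : Type}

theorem exists_dual [DecidableEq I] {v : I → P →+ ℤ} (h : mult v = 1) :
    ∃ e : I → P, ∀ i j, v i (e j) = if i = j then 1 else 0 := by
  have h1 : lat v = ⊤ := AddSubgroup.index_eq_one.1 h
  have h2 : ∀ j, ∃ p, ∀ i, v i p = if i = j then 1 else 0 := fun j =>
    mem_lat.1 (by rw [h1]; trivial)
  choose e he using h2
  exact ⟨e, fun i j => he j i⟩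

theorem exists_basis [Fintype I] [DecidableEq I] [Module.Free ℤ P] [Module.Finite ℤ P] {v : I → P →+ ℤ} (e : I → P)
    (he : ∀ i j, v i (e j) = if i = j then 1 else 0) :
    ∃ (m : ℕ) (B : Module.Basis (I ⊕ Fin m) ℤ P), (∀ i, B (Sum.inl i) = e i) ∧ ∀ i k, v i (B (Sum.inr k)) = 0 := by
  let L : P →ₗ[ℤ] (I → ℤ) := LinearMap.pi fun i => (v i).toIntLinearMap
  have hL : ∀ q i, L q i = v i q := fun _ _ => rfl
  let b := Module.finBasis ℤ (LinearMap.ker L)
  have hb : ∀ k i, v i (b k : P) = 0 := fun k i => by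
    have h := (b k).2
    rw [LinearMap.mem_ker] at h
    exact congrFun h i
  let w : I ⊕ Fin (Module.finrank ℤ (LinearMap.ker L)) → P := Sum.elim e fun k => (b k : P)
  have hli : LinearIndependent ℤ w := by
    rw [Fintype.linearIndependent_iff]
    intro g hg
    rw [Fintype.sum_sum_type] at hg
    simp only [w, Sum.elim_inl, Sum.elim_inr] at hg
    have h1 : ∀ i, g (Sum.inl i) = 0 := by
      intro i
      have h2 := congrArg (v i) hg
      simpa [map_sum, he, hb] using h2
    have h2 : ∑ k, g (Sum.inr k) • b k = 0 := by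
      apply Subtype.ext
      simpa [h1] using hg
    rintro (i | k)
    · exact h1 i
    · exact (Fintype.linearIndependent_iff.1 b.linearIndependent) _ h2 k
  have hsp : ⊤ ≤ Submodule.span ℤ (Set.range w) := by
    rintro q -
    have h1 : q - ∑ i, v i q • e i ∈ LinearMap.ker L := by
      rw [LinearMap.mem_ker]
      funext i
      rw [hL, map_sub, map_sum, Pi.zero_apply]
      simp [he]
    have h2 : ((∑ k, b.repr ⟨_, h1⟩ k • b k : LinearMap.ker L) : P) = q - ∑ i, v i q • e i := by
      rw [b.sum_repr]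
    have h3 : q = ∑ k, b.repr ⟨_, h1⟩ k • (b k : P) + ∑ i, v i q • e i := by
      have h4 : ((∑ k, b.repr ⟨_, h1⟩ k • b k : LinearMap.ker L) : P) = ∑ k, b.repr ⟨_, h1⟩ k • (b k : P) := by
        rw [AddSubmonoidClass.coe_finsetSum]
        rfl
      rw [← h4, h2, sub_add_cancel]
    rw [h3]
    refine Submodule.add_mem _ (Submodule.sum_mem _ fun k _ => Submodule.smul_mem _ _ ?_)
      (Submodule.sum_mem _ fun i _ => Submodule.smul_mem _ _ ?_)
    · exact Submodule.subset_span ⟨Sum.inr k, rfl⟩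
    · exact Submodule.subset_span ⟨Sum.inl i, rfl⟩
  refine ⟨_, Module.Basis.mk hli hsp, fun i => ?_, fun i k => ?_⟩
  · rw [Module.Basis.mk_apply]
    rfl
  · rw [Module.Basis.mk_apply]
    exact hb k i

variable [Fintype I] {v : I → P →+ ℤ} {m : ℕ} (B : Module.Basis (I ⊕ Fin m) ℤ P)

/-- the basis is adapted to `v` -/
def Adapted [DecidableEq I] (v : I → P →+ ℤ) (B : Module.Basis (I ⊕ Fin m) ℤ P) : Prop :=
  (∀ i j, v i (B (Sum.inl j)) = if i = j then 1 else 0) ∧ ∀ i k, v i (B (Sum.inr k)) = 0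

variable {B} [DecidableEq I]

theorem Adapted.eq (h : Adapted v B) (i : I) (q : P) : v i q = B.repr q (Sum.inl i) := by
  conv_lhs => rw [← B.sum_repr q]
  rw [map_sum, Fintype.sum_sum_type]
  simp [h.1, h.2]

theorem Adapted.mem_iff (h : Adapted v B) (q : P) : q ∈ cone v ↔ ∀ i, 0 ≤ B.repr q (Sum.inl i) := by
  rw [mem_cone]
  simp only [h.eq]

omit [Fintype I] in
theorem Adapted.mem (h : Adapted v B) (j : I ⊕ Fin m) : B j ∈ cone v := by
  intro i
  rcases j with j | k
  · rw [h.1]; split_ifs <;> simp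
  · rw [h.2]

omit [Fintype I] in
theorem Adapted.neg_mem (h : Adapted v B) (k : Fin m) : -B (Sum.inr k) ∈ cone v := by
  intro i
  rw [map_neg, h.2, neg_zero]

/-- the map of exponents -/
noncomputable def expo (h : Adapted v B) : ((I ⊕ Fin m) →₀ ℕ) →+ cone v :=
  AddMonoidHom.codRestrict
    (B.repr.symm.toLinearMap.toAddMonoidHom.comp (Finsupp.mapRange.addMonoidHom (Nat.castAddMonoidHom ℤ)))
    (cone v) (fun x => by
      rw [h.mem_iff]
      intro i
      simp)

theorem repr_expo (h : Adapted v B) (x : (I ⊕ Fin m) →₀ ℕ) (j : I ⊕ Fin m) :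
    B.repr (expo h x : P) j = x j := by
  simp [expo]

theorem expo_injective (h : Adapted v B) : Function.Injective (expo h) := by
  intro x y hxy
  ext j
  have h1 := congrArg (fun z : cone v => B.repr (z : P) j) hxy
  simp only [repr_expo] at h1
  exact_mod_cast h1

theorem expo_single (h : Adapted v B) (j : I ⊕ Fin m) : (expo h (Finsupp.single j 1) : P) = B j := by
  apply B.repr.injective
  ext l
  rw [repr_expo, B.repr_self]
  simp only [Finsupp.single_apply]
  split_ifs <;> simp

theorem isLocalization (K : Type u) [CommRing K] (h : Adapted v B)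
    [Algebra K[(I ⊕ Fin m) →₀ ℕ] K[cone v]]
    (halg : algebraMap K[(I ⊕ Fin m) →₀ ℕ] K[cone v] = mapDomainRingHom K (expo h)) :
    IsLocalization.Away (single (Finsupp.equivFunOnFinite.symm (Sum.elim (fun _ => 0) (fun _ => 1))) 1 :
      K[(I ⊕ Fin m) →₀ ℕ]) K[cone v] := by
  let a : (I ⊕ Fin m) →₀ ℕ := Finsupp.equivFunOnFinite.symm (Sum.elim (fun _ => 0) (fun _ => 1))
  have ha : -(expo h a : P) ∈ cone v := by
    rw [h.mem_iff]
    intro i
    rw [map_neg, Finsupp.neg_apply, repr_expo]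
    simp [a]
  refine K73.Toric.isLocalization_away (expo h) (expo_injective h) halg a ⟨-(expo h a : P), ha⟩
    (Subtype.ext (by simp)) fun q' => ?_
  let n : ℕ := ∑ k : Fin m, (B.repr (q' : P) (Sum.inr k)).natAbs
  refine ⟨n, Finsupp.equivFunOnFinite.symm (Sum.elim (fun i => (B.repr (q' : P) (Sum.inl i)).toNat)
    (fun k => (B.repr (q' : P) (Sum.inr k) + n).toNat)), ?_⟩
  apply Subtype.ext
  apply B.repr.injective
  ext j
  rw [repr_expo]
  rw [AddSubmonoid.coe_add, AddSubmonoidClass.coe_nsmul, map_add, map_nsmul, Finsupp.add_apply,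
    Finsupp.smul_apply, repr_expo]
  rcases j with i | k
  · have h1 := (h.mem_iff (q' : P)).1 q'.2 i
    simp [a, h1]
  · have h1 : (0 : ℤ) ≤ B.repr (q' : P) (Sum.inr k) + n := by
      have h2 : (B.repr (q' : P) (Sum.inr k)).natAbs ≤ n :=
        Finset.single_le_sum (f := fun k => (B.repr (q' : P) (Sum.inr k)).natAbs) (fun _ _ => Nat.zero_le _)
          (Finset.mem_univ k)
      omega
    simp [a, h1]

/-- `K[X_i, Y_k] → K[cone v]` is étale. -/
theorem etale_coord (K : Type u) [CommRing K] (h : Adapted v B) :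
    (MvPolynomial.eval₂Hom (algebraMap K (Alg K v)) (fun j => mon K (h.mem j))).Etale := by
  have h1 : MvPolynomial.eval₂Hom (algebraMap K (Alg K v)) (fun j => mon K (h.mem j)) =
      (mapDomainRingHom K (expo h) : K[(I ⊕ Fin m) →₀ ℕ] →+* K[cone v]) := by
    apply MvPolynomial.ringHom_ext
    · intro r
      rw [MvPolynomial.eval₂Hom_C]
      change algebraMap K (Alg K v) r = mapDomainRingHom K (expo h) (single 0 r)
      simp
    · intro j
      rw [MvPolynomial.eval₂Hom_X']
      change mon K (h.mem j) = mapDomainRingHom K (expo h) (single (Finsupp.single j 1) 1)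
      rw [mapDomainRingHom_apply, mapDomain_single, mon]
      congr 1
      exact Subtype.ext (expo_single h j).symm
  rw [h1]
  let _ : Algebra K[(I ⊕ Fin m) →₀ ℕ] K[cone v] := (mapDomainRingHom K (expo h)).toAlgebra
  have h2 := isLocalization K h rfl
  have h3 : Algebra.Etale K[(I ⊕ Fin m) →₀ ℕ] K[cone v] := Algebra.Etale.of_isLocalizationAway
    (single (Finsupp.equivFunOnFinite.symm (Sum.elim (fun _ => 0) (fun _ => 1))) 1 : K[(I ⊕ Fin m) →₀ ℕ])
  exact h3

theorem smooth_coord {K : Type u} [CommRing K] (h : Adapted v B) {R : Type*} [CommRing R] (ψ : Alg K v →+* R)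
    (hψ : ψ.Smooth) :
    (MvPolynomial.eval₂Hom (ψ.comp (algebraMap K (Alg K v))) (fun j => ψ (mon K (h.mem j)))).Smooth := by
  have h1 : MvPolynomial.eval₂Hom (ψ.comp (algebraMap K (Alg K v))) (fun j => ψ (mon K (h.mem j))) =
      ψ.comp (MvPolynomial.eval₂Hom (algebraMap K (Alg K v)) (fun j => mon K (h.mem j))) := by
    apply MvPolynomial.ringHom_ext
    · intro r; simp
    · intro j; simp
  rw [h1]
  exact ((RingHom.etale_iff_formallyUnramified_and_smooth _).1 (etale_coord K h)).2.comp hψ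

omit [Fintype I] [DecidableEq I] in
theorem smooth_of_coord {A R : Type*} [CommRing A] [CommRing R] {σ : Type} [Finite σ] (φ : A →+* R) (t : σ → R)
    (h : (MvPolynomial.eval₂Hom φ t).Smooth) : φ.Smooth := by
  have h1 : φ = (MvPolynomial.eval₂Hom φ t).comp MvPolynomial.C := by
    ext a; simp
  rw [h1]
  refine RingHom.Smooth.comp ?_ h
  have h2 : Algebra.FormallySmooth A (MvPolynomial σ A) := inferInstance
  have h3 : Algebra.FinitePresentation A (MvPolynomial σ A) := inferInstance
  exact (RingHom.smooth_algebraMap (R := A) (S := MvPolynomial σ A)).2 ⟨h2, h3⟩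

/-- If `K[X_σ] → R` is smooth then `R/(t_i)` is reduced. -/
theorem isReduced_quotient {A R : Type u} [CommRing A] [IsDomain A] [CommRing R] {σ : Type} (φ : A →+* R)
    (t : σ → R) (h : (MvPolynomial.eval₂Hom φ t).Smooth) (i : σ) : IsReduced (R ⧸ Ideal.span {t i}) := by
  have hJ : Ideal.span {t i} = (Ideal.span {(MvPolynomial.X i : MvPolynomial σ A)}).map
      (MvPolynomial.eval₂Hom φ t) := by
    rw [Ideal.map_span, Set.image_singleton, MvPolynomial.eval₂Hom_X']
  have h1 := Groth.Agent.Lefpen.H705.LocModel.smooth_quotientMap _ h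
    (Ideal.span {(MvPolynomial.X i : MvPolynomial σ A)}) (Ideal.span {t i}) hJ
  have hp : (Ideal.span {(MvPolynomial.X i : MvPolynomial σ A)}).IsPrime := by
    rw [Ideal.span_singleton_prime (MvPolynomial.X_ne_zero i)]
    exact MvPolynomial.X_prime
  have : IsDomain (MvPolynomial σ A ⧸ Ideal.span {(MvPolynomial.X i : MvPolynomial σ A)}) :=
    Ideal.Quotient.isDomain _
  let _ := (Ideal.quotientMap (I := Ideal.span {(MvPolynomial.X i : MvPolynomial σ A)}) (Ideal.span {t i})
    (MvPolynomial.eval₂Hom φ t) (by rw [hJ]; exact Ideal.le_comap_map)).toAlgebra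
  have h2 : Algebra.Smooth (MvPolynomial σ A ⧸ Ideal.span {(MvPolynomial.X i : MvPolynomial σ A)})
    (R ⧸ Ideal.span {t i}) := h1
  exact Groth.Agent.Ega43.SmoothReduced.isReduced_of_smooth
    (MvPolynomial σ A ⧸ Ideal.span {(MvPolynomial.X i : MvPolynomial σ A)}) _

omit [Fintype I] in
/-- the equation `x^q` of the divisor `i` is a positive power of the coordinate `x^(e_i)` up to a unit -/
theorem exists_pow {K : Type u} [CommRing K] (h : Adapted v B) (D : Dat v) (i : I) :
    ∃ (n : ℕ) (u : Alg K v), 0 < n ∧ IsUnit u ∧ mon K (D.mem i) = mon K (h.mem (Sum.inl i)) ^ n * u := by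
  let n : ℕ := (v i (D.q i)).toNat
  have hn : (n : ℤ) = v i (D.q i) := Int.toNat_of_nonneg (D.pos i).le
  have hw : ∀ j, v j (D.q i - n • B (Sum.inl i)) = 0 := by
    intro j
    rw [map_sub, map_nsmul, h.1, nsmul_eq_mul, hn]
    by_cases hj : j = i
    · subst hj; simp
    · rw [D.ne i j hj, if_neg hj]; simp
  have hw1 : D.q i - n • B (Sum.inl i) ∈ cone v := fun j => (hw j).ge
  have hw2 : -(D.q i - n • B (Sum.inl i)) ∈ cone v := fun j => by rw [map_neg, hw j, neg_zero]
  have hpow : ∀ k : ℕ, ∀ hk : k • B (Sum.inl i) ∈ cone v,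
      mon K (h.mem (Sum.inl i)) ^ k = mon K hk := by
    intro k hk
    rw [mon, single_pow, one_pow, mon]
    rfl
  refine ⟨n, mon K hw1, ?_, ?_, ?_⟩
  · have h1 := D.pos i
    omega
  · refine IsUnit.of_mul_eq_one (mon K hw2) ?_
    rw [mon_mul, mon, AddMonoidAlgebra.one_def]
    congr 1
    exact Subtype.ext (by simp)
  · have hk : n • B (Sum.inl i) ∈ cone v := (cone v).nsmul_mem (h.mem _) n
    rw [hpow n hk, mon_mul, mon, mon]
    congr 1
    exact Subtype.ext (by simp)

end K631.Fin1Alg
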