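import Groth.Agent.Vanish.K27.Crit
import Mathlib.Algebra.MvPolynomial.Derivation
import Mathlib.Algebra.DualNumber
import Mathlib.RingTheory.RingHom.Smooth

/-!
# Smooth maps to affine space have dual derivations

* `exists_lift`: lifting along a surjection with nilpotent kernel, ring-homomorphism form.
* `exists_derivation`: derivations with values in a field extend along formally smooth maps.
* `dualFor_of_smooth`: if `A[X_σ] → B`, `X_j ↦ t_j` is smooth, the `t_j` have dual derivations at every prime.
-/

set_option autoImplicit false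

universe u

namespace K631.SmDual

theorem exists_lift {B C κ E : Type*} [CommRing B] [CommRing C] [CommRing κ] [CommRing E] [Algebra B C]
    [Algebra.FormallySmooth B C] (φ : B →+* E) (g : E →+* κ) (hg : Function.Surjective g)
    (hn : IsNilpotent (RingHom.ker g)) (f : C →+* κ) (h : g.comp φ = f.comp (algebraMap B C)) :
    ∃ ψ : C →+* E, ψ.comp (algebraMap B C) = φ ∧ g.comp ψ = f := by
  let _ : Algebra B E := φ.toAlgebra
  let _ : Algebra B κ := (g.comp φ).toAlgebra
  let f' : C →ₐ[B] κ := { f with commutes' := fun b => (congr($h b)).symm }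
  let g' : E →ₐ[B] κ := { g with commutes' := fun b => rfl }
  let l := Algebra.FormallySmooth.liftOfSurjective f' g' hg hn
  refine ⟨l.toRingHom, ?_, ?_⟩
  · ext b
    exact l.commutes b
  · ext c
    exact congr($(Algebra.FormallySmooth.comp_liftOfSurjective f' g' hg hn) c)

/-- Derivations with values in a field extend along formally smooth maps. -/
theorem exists_derivation (A : Type*) {B C κ : Type*} [CommRing A] [CommRing B] [CommRing C] [Field κ]
    [Algebra A B] [Algebra A C] [Algebra B C] [IsScalarTower A B C] [Algebra C κ] [Algebra A κ] [Algebra B κ]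
    [IsScalarTower B C κ] [IsScalarTower A B κ] [Algebra.FormallySmooth B C] (d : Derivation A B κ) :
    ∃ d' : Derivation A C κ, ∀ b, d' (algebraMap B C b) = d b := by
  let φ : B →+* DualNumber κ :=
    { toFun := fun b => TrivSqZeroExt.inl (algebraMap B κ b) + TrivSqZeroExt.inr (d b)
      map_zero' := by simp
      map_one' := by simp
      map_add' := fun a b => by
        rw [map_add, map_add, TrivSqZeroExt.inl_add, TrivSqZeroExt.inr_add]; abel
      map_mul' := fun a b => by
        ext
        · simp
        · simp only [TrivSqZeroExt.snd_mul, TrivSqZeroExt.fst_add, TrivSqZeroExt.snd_add, TrivSqZeroExt.fst_inl,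
            TrivSqZeroExt.snd_inl, TrivSqZeroExt.fst_inr, TrivSqZeroExt.snd_inr, zero_add, add_zero,
            Derivation.leibniz, smul_eq_mul, MulOpposite.smul_eq_mul_unop, MulOpposite.unop_op]
          rw [Algebra.smul_def, Algebra.smul_def]
          ring }
  have hφ1 : ∀ b, (φ b).fst = algebraMap B κ b := fun b => by simp [φ]
  have hφ2 : ∀ b, (φ b).snd = d b := fun b => by simp [φ]
  let g : DualNumber κ →+* κ := (TrivSqZeroExt.fstHom κ κ κ).toRingHom
  have hg : ∀ x, g x = x.fst := fun _ => rfl
  have hgs : Function.Surjective g := fun x => ⟨TrivSqZeroExt.inl x, rfl⟩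
  have hn : IsNilpotent (RingHom.ker g) := by
    refine ⟨2, (pow_two (RingHom.ker g)).trans ?_⟩
    rw [Ideal.zero_eq_bot, eq_bot_iff, Ideal.mul_le]
    intro x hx y hy
    rw [RingHom.mem_ker, hg] at hx hy
    rw [Ideal.mem_bot]
    ext
    · simp [hx]
    · simp [hx, hy]
  obtain ⟨ψ, h1, h2⟩ := exists_lift φ g hgs hn (algebraMap C κ) (by
    ext b
    change (φ b).fst = algebraMap C κ (algebraMap B C b)
    rw [hφ1, ← IsScalarTower.algebraMap_apply])
  have hψ1 : ∀ c, (ψ c).fst = algebraMap C κ c := fun c => congr($h2 c)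
  have hψB : ∀ b, ψ (algebraMap B C b) = φ b := fun b => congr($h1 b)
  have hA : ∀ a : A, (ψ (algebraMap A C a)).snd = 0 := fun a => by
    rw [IsScalarTower.algebraMap_apply A B C, hψB, hφ2, Derivation.map_algebraMap]
  let δ : C →ₗ[A] κ :=
    { toFun := fun c => (ψ c).snd
      map_add' := fun a b => by rw [map_add, TrivSqZeroExt.snd_add]
      map_smul' := fun a c => by
        rw [Algebra.smul_def, map_mul, TrivSqZeroExt.snd_mul, hA, hψ1]
        have h3 : algebraMap C κ (algebraMap A C a) = algebraMap A κ a := by
          rw [IsScalarTower.algebraMap_apply A B C, ← IsScalarTower.algebraMap_apply B C κ,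
            ← IsScalarTower.algebraMap_apply A B κ]
        rw [h3]
        simp [Algebra.smul_def] }
  refine ⟨Derivation.mk' δ fun a b => ?_, fun b => ?_⟩
  · change (ψ (a * b)).snd = a • (ψ b).snd + b • (ψ a).snd
    rw [map_mul, TrivSqZeroExt.snd_mul, hψ1, hψ1]
    simp [Algebra.smul_def, mul_comm]
  · change (ψ (algebraMap B C b)).snd = d b
    rw [hψB, hφ2]

/-- If `A[X_σ] → B`, `X_j ↦ t_j` is smooth, the `t_j` have dual derivations in every field over `B`. -/
theorem dualAt_of_smooth {A B κ : Type*} [CommRing A] [CommRing B] [Field κ] [Algebra A B] [Algebra B κ]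
    [Algebra A κ] [IsScalarTower A B κ] {ι : Type*} (t : ι → B)
    (h : (MvPolynomial.eval₂Hom (algebraMap A B) t).Smooth) : K27.Dual.DualAt A κ t := by
  classical
  let _ : Algebra (MvPolynomial ι A) B := (MvPolynomial.eval₂Hom (algebraMap A B) t).toAlgebra
  have hX : ∀ i, algebraMap (MvPolynomial ι A) B (MvPolynomial.X i) = t i := fun i => MvPolynomial.eval₂Hom_X' _ _ _
  have hsm : Algebra.Smooth (MvPolynomial ι A) B := h
  have : IsScalarTower A (MvPolynomial ι A) B := IsScalarTower.of_algebraMap_eq fun a => by
    exact (MvPolynomial.eval₂Hom_C (algebraMap A B) t a).symm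
  let _ : Algebra (MvPolynomial ι A) κ :=
    ((algebraMap B κ).comp (algebraMap (MvPolynomial ι A) B)).toAlgebra
  have : IsScalarTower (MvPolynomial ι A) B κ := IsScalarTower.of_algebraMap_eq fun _ => rfl
  have : IsScalarTower A (MvPolynomial ι A) κ := IsScalarTower.of_algebraMap_eq fun a => by
    rw [IsScalarTower.algebraMap_apply (MvPolynomial ι A) B κ,
      ← IsScalarTower.algebraMap_apply A (MvPolynomial ι A) B, ← IsScalarTower.algebraMap_apply A B κ]
  intro i
  let d : Derivation A (MvPolynomial ι A) κ := MvPolynomial.mkDerivation A (Pi.single i 1)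
  obtain ⟨d', hd'⟩ := exists_derivation A d (C := B)
  refine ⟨d', ?_, fun j hj => ?_⟩
  · rw [← hX, hd']
    simp [d]
  · rw [← hX, hd']
    simp [d, hj]

/-- If `A[X_σ] → B`, `X_j ↦ t_j` is smooth, the `t_j` have dual derivations at every prime. -/
theorem dualFor_of_smooth {A B : Type u} [CommRing A] [CommRing B] (φ : A →+* B) {ι : Type*} (t : ι → B)
    (h : (MvPolynomial.eval₂Hom φ t).Smooth) (p : Ideal B) [p.IsPrime] : K27.Crit.DualFor φ p t := by
  let _ : Algebra A B := φ.toAlgebra
  exact dualAt_of_smooth (A := A) t h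

end K631.SmDual
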