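import Groth.Agent.Resolve.K84.DParts
import Groth.Agent.Resolve.K631.Fin1Alg
import Groth.Agent.Resolve.K631.SmDual

/-!
# Node D4: multiplicity one everywhere implies smooth with a strict normal crossing family
-/

set_option autoImplicit false

universe u

open CategoryTheory AlgebraicGeometry TopologicalSpace

namespace K631.Fin1

open K84.Iface K84.DParts K84.Tor K631.Fin1Alg

variable {K : Type u} [Field K] {X : Scheme.{u}} (p : X ⟶ Spec (CommRingCat.of K))

/-- the affine open `⊤` of `Spec K` -/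
noncomputable abbrev topK (K : Type u) [Field K] : (Spec (CommRingCat.of K)).affineOpens := ⟨⊤, isAffineOpen_top _⟩

theorem kmap_eq (U : X.Opens) : kmap p U =
    (p.appLE ⊤ U (by simp)).hom.comp (Scheme.ΓSpecIso (CommRingCat.of K)).inv.hom := rfl

/-- passing from coefficients in `K` to coefficients in `Γ(Spec K, ⊤)` -/
theorem smooth_eval₂ (U : X.Opens) {σ : Type} (t : σ → Γ(X, U))
    (h : (MvPolynomial.eval₂Hom (kmap p U) t).Smooth) :
    (MvPolynomial.eval₂Hom (p.appLE ⊤ U (by simp)).hom t).Smooth := by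
  let ε : K ≃+* Γ(Spec (CommRingCat.of K), ⊤) := (Scheme.ΓSpecIso (CommRingCat.of K)).symm.commRingCatIsoToRingEquiv
  have h1 : MvPolynomial.eval₂Hom (p.appLE ⊤ U (by simp)).hom t =
      (MvPolynomial.eval₂Hom (kmap p U) t).comp (MvPolynomial.mapEquiv σ ε.symm).toRingHom := by
    apply MvPolynomial.ringHom_ext
    · intro r
      simp only [MvPolynomial.eval₂Hom_C, RingHom.comp_apply, RingEquiv.toRingHom_eq_coe, RingHom.coe_coe,
        MvPolynomial.mapEquiv_apply, MvPolynomial.map_C]
      rw [kmap_eq, RingHom.comp_apply]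
      congr 1
      exact (ε.apply_symm_apply r).symm
    · intro j
      simp
  rw [h1]
  exact RingHom.Smooth.respectsIso.2 _ _ h

theorem smooth_appLE (U : X.Opens) (h : (kmap p U).Smooth) : (p.appLE ⊤ U (by simp)).hom.Smooth := by
  let ε : K ≃+* Γ(Spec (CommRingCat.of K), ⊤) := (Scheme.ΓSpecIso (CommRingCat.of K)).symm.commRingCatIsoToRingEquiv
  have h1 : (p.appLE ⊤ U (by simp)).hom = (kmap p U).comp ε.symm.toRingHom := by
    ext r
    rw [kmap_eq, RingHom.comp_apply, RingHom.comp_apply]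
    congr 1
    exact (ε.apply_symm_apply r).symm
  rw [h1]
  exact RingHom.Smooth.respectsIso.2 _ _ h

theorem ideal_le_one {I : X.IdealSheafData} {U : X.affineOpens} {x : X} (hx : x ∈ U.1) (h : I.ideal U = ⊤) :
    x ∉ I.support := by
  intro h1
  have h2 := (Scheme.IdealSheafData.mem_support_iff_of_mem hx).1 h1
  rw [h] at h2
  rw [Scheme.mem_zeroLocus_iff] at h2
  have h3 := h2 1 (by trivial)
  rw [Scheme.basicOpen_of_isUnit _ isUnit_one] at h3
  exact h3 hx

/-- everything about one chart of multiplicity one -/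
theorem chart {ι : Type} {F : ι → X.IdealSheafData} {U : X.affineOpens} (c : FChart p F U)
    (hm : K84.Tor.mult c.v = 1) :
    ∃ (σ : Type) (_ : Finite σ) (t : σ → Γ(X, U.1)) (j : c.I → σ), Function.Injective j ∧
      (MvPolynomial.eval₂Hom (kmap p U) t).Smooth ∧
      (∀ i, ((F (c.lab i)).ideal U).radical = Ideal.span {t (j i)}) := by
  classical
  obtain ⟨e, he⟩ := exists_dual hm
  obtain ⟨m, B, hB1, hB2⟩ := exists_basis e he
  have hB : Adapted c.v B := ⟨fun i j => by rw [hB1, he], hB2⟩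
  have h1 := smooth_coord hB c.ψ c.smooth
  have h2 : c.ψ.comp (algebraMap K (Alg K c.v)) = kmap p U.1 := by
    ext a
    rw [RingHom.comp_apply, ← c.ψ_k a]
    rfl
  rw [h2] at h1
  refine ⟨c.I ⊕ Fin m, inferInstance, fun j => c.ψ (mon K (hB.mem j)), Sum.inl, Sum.inl_injective, h1, fun i => ?_⟩
  obtain ⟨n, u, hn, hu, hnu⟩ := exists_pow (K := K) hB c.dat i
  have h3 : (F (c.lab i)).ideal U = Ideal.span {c.ψ (mon K (hB.mem (Sum.inl i))) ^ n} := by
    rw [c.ideal_lab, hnu, map_mul, map_pow]
    exact Ideal.span_singleton_mul_right_unit (hu.map c.ψ) _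
  have h4 := isReduced_quotient _ _ h1 (Sum.inl i)
  have h5 : (Ideal.span {c.ψ (mon K (hB.mem (Sum.inl i)))}).IsRadical :=
    (Ideal.isRadical_iff_quotient_reduced _).2 h4
  rw [h3, ← Ideal.span_singleton_pow, Ideal.radical_pow _ hn.ne', h5.radical]

/-- **D4** -/
theorem main (K : Type u) [Field K] : Fin1 K := by
  classical
  intro X p hX r F hp H
  have hsm : Smooth p := by
    rw [HasRingHomProperty.iff_exists_appLE (P := @Smooth) (Q := RingHom.Smooth)
      (RingHom.Smooth.stableUnderComposition.stableUnderCompositionWithLocalizationAway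
        RingHom.Smooth.holdsForLocalizationAway).left]
    intro x
    obtain ⟨U, c, hx, -, hm⟩ := H x
    obtain ⟨σ, _, t, j, -, h1, -⟩ := chart p c hm
    exact ⟨topK K, U, hx, le_top, smooth_appLE p U.1 (smooth_of_coord _ _ h1)⟩
  refine ⟨hsm, fun i => (F i).radical, ?_, fun i => rfl⟩
  apply K27.Crit.isNCD_of_forall p
  intro x hT
  obtain ⟨U, c, hx, -, hm⟩ := H x
  obtain ⟨σ, _, t, j, hj, h1, h2⟩ := chart p c hm
  have hlab : ∀ i : LogNCD.Through (fun i => (F i).radical) x, ∃ l, c.lab l = i.1 := by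
    intro i
    by_contra hcon
    exact ideal_le_one hx (c.ideal_notMem i.1 fun ⟨l, hl⟩ => hcon ⟨l, hl⟩) i.2
  choose l hl using hlab
  refine ⟨U, topK K, le_top, hx, fun i => t (j (l i)), fun i => ?_, ?_⟩
  · rw [← h2, hl]
    rfl
  · have h3 := SmDual.dualFor_of_smooth _ t (smooth_eval₂ p U.1 t h1) (U.2.primeIdealOf ⟨x, hx⟩).asIdeal
    have hinj : Function.Injective fun i => j (l i) := by
      intro a b hab
      have h4 : l a = l b := hj hab
      apply Subtype.ext
      rw [← hl a, ← hl b, h4]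
    let _ := (p.appLE ⊤ U.1 (by simp)).hom.toAlgebra
    exact K27.Dual.DualAt.comp h3 (fun i => j (l i)) hinj

end K631.Fin1
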